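import Groth.Agent.Krr.H477.LamMul
import Mathlib.Algebra.MonoidAlgebra.Basic

/-!
# The action of the monoid ring `ℤ[D]` on the units of `D⟦t⟧` by rescaling

`M D` is the group of units of `D⟦t⟧`, written additively; `[u] ∈ ℤ[D]` acts by `f(t) ↦ f(u t)`.
-/

set_option autoImplicit false

universe v

namespace Groth.Agent.Krr.H477.Action

open LambdaRing Groth.Agent.Books.Lambda1 Groth.Agent.Krr.H477.Splitting
  Groth.Agent.Krr.H477.LamMul

section

variable (D : Type v) [CommRing D]

/-- The units of `D⟦t⟧`, additively. -/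
abbrev M : Type v := Additive (PowerSeries D)ˣ

/-- The monoid `(D, ·)` acts by rescaling. -/
noncomputable def actMul : D →* AddMonoid.End (M D) where
  toFun u := MonoidHom.toAdditive (Units.map (PowerSeries.rescale u : _ →* PowerSeries D))
  map_one' := by
    apply AddMonoidHom.ext
    intro x
    apply Additive.toMul.injective
    apply Units.ext
    change PowerSeries.rescale 1 _ = _
    rw [PowerSeries.rescale_one]
    rfl
  map_mul' a b := by
    apply AddMonoidHom.ext
    intro x
    apply Additive.toMul.injective
    apply Units.ext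
    change PowerSeries.rescale (a * b) _ = PowerSeries.rescale a (PowerSeries.rescale b _)
    rw [PowerSeries.rescale_rescale, mul_comm]

/-- The action of `ℤ[D]`. -/
noncomputable def Act : MonoidAlgebra ℤ D →+* AddMonoid.End (M D) :=
  MonoidAlgebra.liftNCRingHom (Int.castRingHom (AddMonoid.End (M D))) (actMul D)
    (fun _ _ => by rw [eq_intCast]; exact Int.cast_commute _ _)

variable {D}

/-- the basis element `[u]`. -/
noncomputable def br (u : D) : MonoidAlgebra ℤ D := MonoidAlgebra.of ℤ D u

theorem br_one : br (1 : D) = 1 := map_one _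

theorem br_mul (u v : D) : br (u * v) = br u * br v := map_mul _ _ _

theorem br_pow (u : D) (n : ℕ) : br (u ^ n) = br u ^ n := map_pow _ _ _

theorem br_prod {ι : Type*} (s : Finset ι) (u : ι → D) :
    br (∏ i ∈ s, u i) = ∏ i ∈ s, br (u i) := map_prod _ _ _

/-- the underlying power series. -/
def val (x : M D) : PowerSeries D := ((Additive.toMul x : (PowerSeries D)ˣ) : PowerSeries D)

theorem val_injective : Function.Injective (val : M D → PowerSeries D) := fun _ _ h =>
  Additive.toMul.injective (Units.ext h)

theorem val_add (x y : M D) : val (x + y) = val x * val y := rfl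

theorem val_zero : val (0 : M D) = 1 := rfl

theorem val_sum {ι : Type*} (s : Finset ι) (x : ι → M D) :
    val (∑ i ∈ s, x i) = ∏ i ∈ s, val (x i) := by
  classical
  induction s using Finset.induction_on with
  | empty => simp [val_zero]
  | insert a s ha ih => rw [Finset.sum_insert ha, Finset.prod_insert ha, val_add, ih]

theorem val_act_br (u : D) (x : M D) : val (Act D (br u) x) = PowerSeries.rescale u (val x) := by
  have h : Act D (br u) = actMul D u := by
    rw [Act, br, MonoidAlgebra.of_apply, MonoidAlgebra.liftNCRingHom_single, map_one, one_mul]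
  rw [h]
  rfl

theorem act_sum {ι : Type*} (s : Finset ι) (z : ι → MonoidAlgebra ℤ D) (x : M D) :
    Act D (∑ i ∈ s, z i) x = ∑ i ∈ s, Act D (z i) x := by
  rw [map_sum]
  exact AddMonoidHom.finsetSum_apply _ _ _

theorem act_add (z z' : MonoidAlgebra ℤ D) (x : M D) :
    Act D (z + z') x = Act D z x + Act D z' x := by
  rw [map_add]; rfl

theorem act_sub (z z' : MonoidAlgebra ℤ D) (x : M D) :
    Act D (z - z') x = Act D z x - Act D z' x := by
  rw [map_sub]; rfl

theorem act_mul (z z' : MonoidAlgebra ℤ D) (x : M D) :
    Act D (z * z') x = Act D z (Act D z' x) := by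
  rw [map_mul]; rfl

theorem act_comm (z z' : MonoidAlgebra ℤ D) (x : M D) :
    Act D z (Act D z' x) = Act D z' (Act D z x) := by
  rw [← act_mul, mul_comm, act_mul]

theorem act_one (x : M D) : Act D 1 x = x := by
  rw [map_one]; rfl

theorem act_zero (x : M D) : Act D 0 x = 0 := by
  rw [map_zero]; rfl

theorem act_neg_one_pow (i : ℕ) (x : M D) : Act D ((-1) ^ i) x = (-1 : ℤ) ^ i • x := by
  rcases Nat.even_or_odd i with h | h
  · rw [h.neg_one_pow, h.neg_one_pow, one_smul, act_one]
  · rw [h.neg_one_pow, h.neg_one_pow, neg_smul, one_smul, map_neg, map_one]; rfl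

/-- symmetric products in terms of the action. -/
theorem val_act_es {n : ℕ} (w : Fin n → D) (i : ℕ) (x : M D) :
    val (Act D (es (fun k => br (w k)) i) x) = symProd w i (val x) := by
  rw [es, act_sum, val_sum, symProd]
  refine Finset.prod_congr rfl fun S _ => ?_
  rw [← br_prod, val_act_br]

end

section lam

variable {K : Type v} [CommRing K] [LambdaOps K] {D : Type v} [CommRing D]

/-- `λ_t(x)` pushed to `D`, as an additive map `K → M D`. -/
noncomputable def lamU (φ : K →+* D) : K →+ M D :=
  AddMonoidHom.mk' (fun x => Additive.ofMul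
    { val := PowerSeries.map φ (lamSeries x)
      inv := PowerSeries.map φ (lamSeries (-x))
      val_inv := by rw [← map_mul, lamSeries_mul_neg, map_one]
      inv_val := by rw [mul_comm, ← map_mul, lamSeries_mul_neg, map_one] }) (by
    intro x y
    apply Additive.toMul.injective
    apply Units.ext
    change PowerSeries.map φ (lamSeries (x + y)) =
      PowerSeries.map φ (lamSeries x) * PowerSeries.map φ (lamSeries y)
    rw [lamSeries_add, map_mul])

theorem val_lamU (φ : K →+* D) (x : K) : val (lamU φ x) = PowerSeries.map φ (lamSeries x) := rfl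

/-- the main identity in terms of the action. -/
theorem lamU_lam_mul (P : PosStructure K) (hK : HasSplitting K P) {a : K}
    (ha : a ∈ P.pos) (b : K) (i : ℕ) {n : ℕ} (hn : (P.aug a).toNat = n)
    (φ : K →+* D) (w : Fin n → D) (hw : ∀ k : ℕ, φ (LambdaOps.lam k a) = es w k) :
    lamU φ (LambdaOps.lam i a * b) = Act D (es (fun k => br (w k)) i) (lamU φ b) := by
  apply val_injective
  rw [val_act_es, val_lamU, val_lamU, map_lamSeries_lam_mul P hK ha b i hn φ w hw]

theorem lamU_mul (P : PosStructure K) (hK : HasSplitting K P) {a : K}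
    (ha : a ∈ P.pos) (b : K) {n : ℕ} (hn : (P.aug a).toNat = n)
    (φ : K →+* D) (w : Fin n → D) (hw : ∀ k : ℕ, φ (LambdaOps.lam k a) = es w k) :
    lamU φ (a * b) = Act D (∑ k, br (w k)) (lamU φ b) := by
  have h := lamU_lam_mul P hK ha b 1 hn φ w hw
  rw [LambdaOps.lam_one, es_one] at h
  exact h

theorem lamU_neg_one_pow_mul (φ : K →+* D) (i : ℕ) (x : K) :
    lamU φ ((-1) ^ i * x) = (-1 : ℤ) ^ i • lamU φ x := by
  rcases Nat.even_or_odd i with h | h
  · rw [h.neg_one_pow, h.neg_one_pow, one_smul, one_mul]
  · rw [h.neg_one_pow, h.neg_one_pow, neg_smul, one_smul, neg_one_mul, map_neg]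

end lam

end Groth.Agent.Krr.H477.Action
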