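import Groth.Prelude.Def_KRR
import Groth.Agent.Krr.H477.Action
import Groth.Agent.Krr.H501.ExtPolyAlg

/-!
# The λ-structure on the elementary extension `K_e = K[T]/(p_e)`: module-theoretic part
-/

set_option autoImplicit false

universe v

open Polynomial

namespace Groth.Agent.Krr.H477.ElemExt

open LambdaRing Groth.Agent.Books.Lambda1 Groth.Agent.Krr.H477.Splitting
  Groth.Agent.Krr.H477.LamMul Groth.Agent.Krr.H477.Action

variable {K : Type v} [CommRing K] [LambdaOps K] (P : PosStructure K) (e : K)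

omit [LambdaOps K] in
theorem nontrivial_of [LambdaOps K] (P : PosStructure K) : Nontrivial K :=
  RingHom.domain_nontrivial P.aug

theorem monic : (KRR.extPoly P e).Monic := by
  have := nontrivial_of P
  rw [Groth.Agent.Krr.H501.ExtPolyAlg.extPoly_eq_extPart]
  exact (Groth.Agent.Krr.H501.ExtPolyAlg.extPart_monic_natDegree e _).1

theorem natDegree_eq : (KRR.extPoly P e).natDegree = (P.aug e).toNat := by
  have := nontrivial_of P
  rw [Groth.Agent.Krr.H501.ExtPolyAlg.extPoly_eq_extPart]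
  exact (Groth.Agent.Krr.H501.ExtPolyAlg.extPart_monic_natDegree e _).2

theorem coeff_extPoly {j : ℕ} (hj : j ≤ (P.aug e).toNat) :
    (KRR.extPoly P e).coeff ((P.aug e).toNat - j) = (-1) ^ j * LambdaOps.lam j e := by
  rw [KRR.extPoly, coeff_sum_C_mul _ hj]

/-- The elementary extension. -/
abbrev Ke : Type v := AdjoinRoot (KRR.extPoly P e)

/-- the canonical representative of degree `< m`. -/
noncomputable def rep : Ke P e →ₗ[K] K[X] := AdjoinRoot.modByMonicHom (monic P e)

theorem mk_rep (x : Ke P e) : AdjoinRoot.mk (KRR.extPoly P e) (rep P e x) = x :=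
  AdjoinRoot.mk_leftInverse (monic P e) x

theorem rep_mk_of_lt {q : K[X]} (hq : q.degree < (KRR.extPoly P e).degree) :
    rep P e (AdjoinRoot.mk (KRR.extPoly P e) q) = q := by
  have := nontrivial_of P
  rw [rep, AdjoinRoot.modByMonicHom_mk, (modByMonic_eq_self_iff (monic P e)).mpr hq]

theorem degree_rep_lt (x : Ke P e) : (rep P e x).degree < (KRR.extPoly P e).degree := by
  have := nontrivial_of P
  obtain ⟨q, rfl⟩ := AdjoinRoot.mk_surjective x
  rw [rep, AdjoinRoot.modByMonicHom_mk]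
  exact degree_modByMonic_lt q (monic P e)

theorem degree_extPoly : (KRR.extPoly P e).degree = ((P.aug e).toNat : WithBot ℕ) := by
  have := nontrivial_of P
  rw [degree_eq_natDegree (monic P e).ne_zero, natDegree_eq]

theorem coeff_rep_of_le (x : Ke P e) {k : ℕ} (hk : (P.aug e).toNat ≤ k) :
    (rep P e x).coeff k = 0 := by
  apply coeff_eq_zero_of_degree_lt
  refine (degree_rep_lt P e x).trans_le ?_
  rw [degree_extPoly]
  exact_mod_cast hk

/-- expansion in the basis `1, ℓ, …, ℓ^{m-1}`. -/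
theorem eq_sum (x : Ke P e) : x = ∑ j ∈ Finset.range (P.aug e).toNat,
    AdjoinRoot.of (KRR.extPoly P e) ((rep P e x).coeff j) * AdjoinRoot.root (KRR.extPoly P e) ^ j := by
  have h : rep P e x = ∑ j ∈ Finset.range (P.aug e).toNat, C ((rep P e x).coeff j) * X ^ j := by
    ext k
    rw [finsetSum_coeff]
    simp only [coeff_C_mul_X_pow]
    by_cases hk : k < (P.aug e).toNat
    · rw [Finset.sum_eq_single k]
      · simp
      · intro j _ hj
        rw [if_neg (fun h => hj h.symm)]
      · intro h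
        exact absurd (Finset.mem_range.mpr hk) h
    · rw [coeff_rep_of_le P e x (not_lt.mp hk), Finset.sum_eq_zero]
      intro j hj
      rw [if_neg]
      rintro rfl
      exact hk (Finset.mem_range.mp hj)
  conv_lhs => rw [← mk_rep P e x, h]
  rw [map_sum]
  refine Finset.sum_congr rfl fun j _ => ?_
  rw [map_mul, map_pow, AdjoinRoot.mk_X, AdjoinRoot.mk_C]

theorem rep_of (hm : 0 < (P.aug e).toNat) (a : K) :
    rep P e (AdjoinRoot.of (KRR.extPoly P e) a) = C a := by
  rw [← AdjoinRoot.mk_C]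
  apply rep_mk_of_lt
  rw [degree_extPoly]
  exact lt_of_le_of_lt degree_C_le (by exact_mod_cast hm)

theorem rep_of_mul (a : K) (x : Ke P e) :
    rep P e (AdjoinRoot.of (KRR.extPoly P e) a * x) = C a * rep P e x := by
  rw [← AdjoinRoot.algebraMap_eq, ← Algebra.smul_def, map_smul, smul_eq_C_mul]

theorem rep_root_mul (hm : 0 < (P.aug e).toNat) (x : Ke P e) :
    rep P e (AdjoinRoot.root (KRR.extPoly P e) * x) =
      X * rep P e x - C ((rep P e x).coeff ((P.aug e).toNat - 1)) * KRR.extPoly P e := by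
  have hmk : AdjoinRoot.root (KRR.extPoly P e) * x = AdjoinRoot.mk (KRR.extPoly P e)
      (X * rep P e x - C ((rep P e x).coeff ((P.aug e).toNat - 1)) * KRR.extPoly P e) := by
    rw [map_sub, map_mul, map_mul, AdjoinRoot.mk_self, mul_zero, sub_zero, AdjoinRoot.mk_X, mk_rep]
  rw [hmk]
  apply rep_mk_of_lt
  rw [degree_extPoly, degree_lt_iff_coeff_zero]
  intro k hk
  obtain ⟨k, rfl⟩ : ∃ k', k = k' + 1 := ⟨k - 1, by omega⟩
  rw [coeff_sub, coeff_X_mul, coeff_C_mul]
  rcases eq_or_lt_of_le hk with h | h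
  · have h1 : (KRR.extPoly P e).coeff (k + 1) = 1 := by
      have := (monic P e).coeff_natDegree
      rwa [natDegree_eq, h] at this
    rw [h1, mul_one, h]
    simp
  · have h1 : (KRR.extPoly P e).coeff (k + 1) = 0 :=
      coeff_eq_zero_of_natDegree_lt (by rw [natDegree_eq]; omega)
    rw [coeff_rep_of_le P e x (by omega), h1, mul_zero, sub_zero]

section G

variable {D : Type v} [CommRing D] (φ : K →+* D) (l : D)

/-- `Σ_{j<N} [l]^j • λ_t(q_j)`. -/
noncomputable def G (N : ℕ) (q : K[X]) : M D :=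
  ∑ j ∈ Finset.range N, Act D (br l ^ j) (lamU φ (q.coeff j))

theorem G_add (N : ℕ) (q q' : K[X]) : G φ l N (q + q') = G φ l N q + G φ l N q' := by
  rw [G, G, G, ← Finset.sum_add_distrib]
  refine Finset.sum_congr rfl fun j _ => ?_
  rw [coeff_add, map_add, map_add]

theorem G_sub (N : ℕ) (q q' : K[X]) : G φ l N (q - q') = G φ l N q - G φ l N q' := by
  rw [G, G, G, ← Finset.sum_sub_distrib]
  refine Finset.sum_congr rfl fun j _ => ?_
  rw [coeff_sub, map_sub, map_sub]

theorem G_C {N : ℕ} (hN : 0 < N) (a : K) : G φ l N (C a) = lamU φ a := by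
  rw [G, Finset.sum_eq_single 0]
  · rw [pow_zero, act_one, coeff_C_zero]
  · intro j _ hj
    rw [coeff_C_of_ne_zero hj, map_zero, map_zero]
  · intro h
    exact absurd (Finset.mem_range.mpr hN) h

theorem G_succ_X_mul (N : ℕ) (q : K[X]) : G φ l (N + 1) (X * q) = Act D (br l) (G φ l N q) := by
  rw [G, Finset.sum_range_succ', coeff_X_mul_zero, map_zero, map_zero, add_zero, G, map_sum]
  refine Finset.sum_congr rfl fun j _ => ?_
  rw [coeff_X_mul, ← act_mul, pow_succ, mul_comm]

theorem G_C_mul (N : ℕ) (a : K) (z : MonoidAlgebra ℤ D)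
    (hz : ∀ b : K, lamU φ (a * b) = Act D z (lamU φ b)) (q : K[X]) :
    G φ l N (C a * q) = Act D z (G φ l N q) := by
  rw [G, G, map_sum]
  refine Finset.sum_congr rfl fun j _ => ?_
  rw [coeff_C_mul, hz, act_comm]

theorem map_val_G {D' : Type v} [CommRing D'] (ψ : D →+* D') (N : ℕ) (q : K[X]) :
    PowerSeries.map ψ (val (G φ l N q)) = val (G (ψ.comp φ) (ψ l) N q) := by
  rw [G, G, val_sum, val_sum, map_prod]
  refine Finset.prod_congr rfl fun j _ => ?_
  rw [← br_pow, ← br_pow, val_act_br, val_act_br, map_rescale, map_pow, val_lamU, val_lamU]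
  congr 1

/-- The relation `p_e(ℓ) = 0`, multiplied by `b`, in `λ_t`-form. -/
theorem G_extPoly (hK : HasSplitting K P) (he : e ∈ P.pos) (w : Fin (P.aug e).toNat → D)
    (hw : ∀ k : ℕ, φ (LambdaOps.lam k e) = es w k) (k₀ : Fin (P.aug e).toNat) (hk₀ : w k₀ = l)
    (b : K) : G φ l ((P.aug e).toNat + 1) (C b * KRR.extPoly P e) = 0 := by
  have h1 : G φ l ((P.aug e).toNat + 1) (C b * KRR.extPoly P e) =
      Act D (∑ j ∈ Finset.range ((P.aug e).toNat + 1),
        (-1) ^ j * es (fun k => br (w k)) j * br l ^ ((P.aug e).toNat - j)) (lamU φ b) := by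
    rw [G, ← Finset.sum_range_reflect, act_sum]
    refine Finset.sum_congr rfl fun j hj => ?_
    have hj' : j ≤ (P.aug e).toNat := by have := Finset.mem_range.mp hj; omega
    have h2 : (P.aug e).toNat + 1 - 1 - j = (P.aug e).toNat - j := by omega
    rw [h2, coeff_C_mul, coeff_extPoly P e hj']
    have h3 : b * ((-1) ^ j * LambdaOps.lam j e) = (-1) ^ j * (LambdaOps.lam j e * b) := by ring
    rw [h3, lamU_neg_one_pow_mul, lamU_lam_mul P hK he b j rfl φ w hw, ← act_neg_one_pow,
      ← act_mul, ← act_mul]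
    congr 2
    ring
  rw [h1, ← prod_sub, Finset.prod_eq_zero (Finset.mem_univ k₀) (by rw [hk₀, sub_self]), act_zero]

end G

section LU

variable {D : Type v} [CommRing D] (ψ : Ke P e →+* D)

/-- `λ_t(x)`, `x ∈ K_e`, pushed to `D`. -/
noncomputable def LU (x : Ke P e) : M D :=
  G (ψ.comp (AdjoinRoot.of (KRR.extPoly P e))) (ψ (AdjoinRoot.root (KRR.extPoly P e)))
    (P.aug e).toNat (rep P e x)

theorem LU_add (x y : Ke P e) : LU P e ψ (x + y) = LU P e ψ x + LU P e ψ y := by
  rw [LU, map_add, G_add]; rfl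

theorem LU_sub (x y : Ke P e) : LU P e ψ (x - y) = LU P e ψ x - LU P e ψ y := by
  rw [LU, map_sub, G_sub]; rfl

theorem map_val_LU {D' : Type v} [CommRing D'] (χ : D →+* D') (x : Ke P e) :
    PowerSeries.map χ (val (LU P e ψ x)) = val (LU P e (χ.comp ψ) x) := by
  rw [LU, LU, map_val_G]
  rfl

/-- `λ_t` on `K_e` as a power series over `K_e`. -/
noncomputable def LA (x : Ke P e) : PowerSeries (Ke P e) := val (LU P e (RingHom.id _) x)

theorem val_LU (x : Ke P e) : val (LU P e ψ x) = PowerSeries.map ψ (LA P e x) := by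
  rw [LA, map_val_LU]
  rfl

theorem LU_of (hm : 0 < (P.aug e).toNat) (a : K) :
    LU P e ψ (AdjoinRoot.of (KRR.extPoly P e) a) =
      lamU (ψ.comp (AdjoinRoot.of (KRR.extPoly P e))) a := by
  rw [LU, rep_of P e hm, G_C _ _ hm]

theorem LU_of_mul (a : K) (z : MonoidAlgebra ℤ D)
    (hz : ∀ b : K, lamU (ψ.comp (AdjoinRoot.of (KRR.extPoly P e))) (a * b) =
      Act D z (lamU (ψ.comp (AdjoinRoot.of (KRR.extPoly P e))) b)) (x : Ke P e) :
    LU P e ψ (AdjoinRoot.of (KRR.extPoly P e) a * x) = Act D z (LU P e ψ x) := by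
  rw [LU, rep_of_mul, G_C_mul _ _ _ _ z hz]; rfl

theorem G_succ_of_coeff_eq_zero (φ : K →+* D) (l : D) (N : ℕ) (q : K[X]) (hq : q.coeff N = 0) :
    G φ l (N + 1) q = G φ l N q := by
  rw [G, Finset.sum_range_succ, hq, map_zero, map_zero, add_zero]; rfl

/-- multiplication by `ℓ` in a ring where `e` splits with `ℓ` as one of the roots. -/
theorem LU_root_mul_of_split (hK : HasSplitting K P) (he : e ∈ P.pos)
    (w : Fin (P.aug e).toNat → D)
    (hw : ∀ k : ℕ, ψ (AdjoinRoot.of (KRR.extPoly P e) (LambdaOps.lam k e)) = es w k)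
    (k₀ : Fin (P.aug e).toNat) (hk₀ : w k₀ = ψ (AdjoinRoot.root (KRR.extPoly P e)))
    (x : Ke P e) :
    LU P e ψ (AdjoinRoot.root (KRR.extPoly P e) * x) =
      Act D (br (ψ (AdjoinRoot.root (KRR.extPoly P e)))) (LU P e ψ x) := by
  have hm : 0 < (P.aug e).toNat := by
    have := P.aug_pos e he
    omega
  rw [LU, ← G_succ_of_coeff_eq_zero _ _ _ _ (coeff_rep_of_le P e _ le_rfl),
    rep_root_mul P e hm, G_sub,
    G_extPoly P e _ _ hK he w hw k₀ hk₀, sub_zero, G_succ_X_mul]
  rfl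

end LU

section root

open Groth.Agent.Krr.H501.ExtPolyAlg

/-- There is an injective extension of `K_e` in which `e` splits with `ℓ` as first root. -/
theorem exists_split_root (he : e ∈ P.pos) :
    ∃ (D : Type v) (_ : CommRing D) (ψ : Ke P e →+* D), Function.Injective ψ ∧
      ∃ w : Fin (P.aug e).toNat → D,
        (∀ k : ℕ, ψ (AdjoinRoot.of (KRR.extPoly P e) (LambdaOps.lam k e)) = es w k) ∧
        ∃ k₀, w k₀ = ψ (AdjoinRoot.root (KRR.extPoly P e)) := by
  have := nontrivial_of P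
  have hm : 0 < (P.aug e).toNat := by
    have := P.aug_pos e he
    omega
  have hnt : Nontrivial (Ke P e) := by
    refine ⟨⟨0, 1, fun h => ?_⟩⟩
    have h1 : (AdjoinRoot.mk (KRR.extPoly P e)) 1 = 0 := by rw [map_one]; exact h.symm
    rw [AdjoinRoot.mk_eq_zero] at h1
    refine (monic P e).not_dvd_of_degree_lt one_ne_zero ?_ h1
    rw [degree_extPoly, degree_one]
    exact_mod_cast hm
  set r := AdjoinRoot.root (KRR.extPoly P e) with hr
  obtain ⟨q, hq⟩ : X - C r ∣ (KRR.extPoly P e).map (AdjoinRoot.of (KRR.extPoly P e)) := by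
    rw [dvd_iff_isRoot]
    exact AdjoinRoot.isRoot_root _
  have hqm : q.Monic := .of_mul_monic_left (monic_X_sub_C r) (hq ▸ (monic P e).map _)
  have hqd : q.natDegree = (P.aug e).toNat - 1 := by
    have h1 := congrArg natDegree hq
    rw [(monic P e).natDegree_map, natDegree_eq, Monic.natDegree_mul (monic_X_sub_C _) hqm,
      natDegree_X_sub_C] at h1
    omega
  obtain ⟨D, _, _, ψ, hψ, w, hw⟩ := exists_split_monic q hqm _ hqd
  obtain ⟨m, hm'⟩ : ∃ m, (P.aug e).toNat = m + 1 := ⟨(P.aug e).toNat - 1, by omega⟩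
  have hm'' : (P.aug e).toNat - 1 = m := by omega
  have hmap : ((KRR.extPoly P e).map (AdjoinRoot.of (KRR.extPoly P e))).map ψ =
      ∑ j ∈ Finset.range (m + 1 + 1), C ((-1) ^ j *
        ψ (AdjoinRoot.of (KRR.extPoly P e) (LambdaOps.lam j e))) * X ^ (m + 1 - j) := by
    have h0 : ∀ (B : Type v) [CommRing B] (χ : K →+* B), (KRR.extPoly P e).map χ =
        ∑ j ∈ Finset.range (m + 1 + 1), C ((-1) ^ j * χ (LambdaOps.lam j e)) *
          X ^ (m + 1 - j) := by
      intro B _ χ
      rw [KRR.extPoly, hm', Polynomial.map_sum]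
      refine Finset.sum_congr rfl fun j _ => ?_
      simp
    rw [Polynomial.map_map]
    exact h0 D (ψ.comp (AdjoinRoot.of (KRR.extPoly P e)))
  refine ⟨D, inferInstance, ψ, hψ, ?_⟩
  have key : ∃ w : Fin (m + 1) → D,
      ((KRR.extPoly P e).map (AdjoinRoot.of (KRR.extPoly P e))).map ψ = ∏ k, (X - C (w k)) ∧
      ∃ k₀, w k₀ = ψ r := by
    subst hm''
    refine ⟨Fin.cons (ψ r) w, ?_, 0, rfl⟩
    rw [hq, Polynomial.map_mul, hw, Fin.prod_univ_succ]
    simp
  rw [hm']
  obtain ⟨w, hw, k₀, hk₀⟩ := key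
  refine ⟨w, ?_, k₀, hk₀⟩
  intro k
  by_cases hk : k ≤ m + 1
  · exact es_eq_of_prod_eq w
      (fun k => ψ (AdjoinRoot.of (KRR.extPoly P e) (LambdaOps.lam k e))) (hmap.symm.trans hw) hk
  · have h0 : LambdaOps.lam k e = 0 := P.lam_eq_zero e he k (by omega)
    rw [h0, map_zero, map_zero, es_of_lt w (by omega)]

end root

end Groth.Agent.Krr.H477.ElemExt
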