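import Groth.Agent.Krr.H477.ElemExt

/-!
# The λ-structure on the elementary extension: multiplicative part

`LA x = λ_t(x)` for `x ∈ K_e`; `LA (x y)` is computed from splittings of `x` and `y`.
-/

set_option autoImplicit false

universe v

open Polynomial

namespace Groth.Agent.Krr.H477.ElemMul

open LambdaRing Groth.Agent.Books.Lambda1 Groth.Agent.Krr.H477.Splitting
  Groth.Agent.Krr.H477.LamMul Groth.Agent.Krr.H477.Action Groth.Agent.Krr.H477.ElemExt

variable {K : Type v} [CommRing K] [LambdaOps K] (P : PosStructure K) (e : K)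

theorem LA_eq (x : Ke P e) : LA P e x = ∏ j ∈ Finset.range (P.aug e).toNat,
    PowerSeries.rescale (AdjoinRoot.root (KRR.extPoly P e) ^ j)
      (PowerSeries.map (AdjoinRoot.of (KRR.extPoly P e)) (lamSeries ((rep P e x).coeff j))) := by
  rw [LA, LU, G, val_sum]
  refine Finset.prod_congr rfl fun j _ => ?_
  rw [← br_pow, val_act_br, val_lamU]
  rfl

theorem LA_add (x y : Ke P e) : LA P e (x + y) = LA P e x * LA P e y := by
  rw [LA, LU_add, val_add]; rfl

theorem LA_of (hm : 0 < (P.aug e).toNat) (a : K) : LA P e (AdjoinRoot.of (KRR.extPoly P e) a) =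
    PowerSeries.map (AdjoinRoot.of (KRR.extPoly P e)) (lamSeries a) := by
  rw [LA, LU_of P e _ hm, val_lamU]
  rfl

theorem coeff_zero_LA (x : Ke P e) : PowerSeries.coeff 0 (LA P e x) = 1 := by
  rw [LA_eq, PowerSeries.coeff_zero_eq_constantCoeff_apply, map_prod, Finset.prod_eq_one]
  intro j _
  rw [← PowerSeries.coeff_zero_eq_constantCoeff_apply, PowerSeries.coeff_rescale,
    PowerSeries.coeff_map, coeff_lamSeries, LambdaOps.lam_zero]
  simp

theorem coeff_one_prod {A : Type*} [CommRing A] {ι : Type*} (s : Finset ι)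
    (f : ι → PowerSeries A) (hf : ∀ i ∈ s, PowerSeries.coeff 0 (f i) = 1) :
    PowerSeries.coeff 0 (∏ i ∈ s, f i) = 1 ∧
    PowerSeries.coeff 1 (∏ i ∈ s, f i) = ∑ i ∈ s, PowerSeries.coeff 1 (f i) := by
  classical
  induction s using Finset.induction_on with
  | empty => simp [PowerSeries.coeff_one]
  | insert a s ha ih =>
    obtain ⟨h0, h1⟩ := ih (fun i hi => hf i (Finset.mem_insert_of_mem hi))
    have ha0 := hf a (Finset.mem_insert_self a s)
    rw [Finset.prod_insert ha, Finset.sum_insert ha]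
    constructor
    · rw [PowerSeries.coeff_mul]
      simp [h0, ha0, -PowerSeries.coeff_zero_eq_constantCoeff]
    · rw [PowerSeries.coeff_mul, Finset.Nat.antidiagonal_succ]
      simp [h0, ha0, h1, -PowerSeries.coeff_zero_eq_constantCoeff]
      ring

theorem coeff_one_LA (x : Ke P e) : PowerSeries.coeff 1 (LA P e x) = x := by
  rw [LA_eq, (coeff_one_prod _ _ _).2]
  · conv_rhs => rw [eq_sum P e x]
    refine Finset.sum_congr rfl fun j _ => ?_
    rw [PowerSeries.coeff_rescale, PowerSeries.coeff_map, coeff_lamSeries, LambdaOps.lam_one,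
      pow_one, mul_comm]
  · intro j _
    rw [PowerSeries.coeff_rescale, PowerSeries.coeff_map, coeff_lamSeries, LambdaOps.lam_zero]
    simp

/-- The λ-operations on `K_e`. -/
@[reducible] noncomputable def ops : LambdaOps (Ke P e) where
  lam n x := PowerSeries.coeff n (LA P e x)
  lam_zero := coeff_zero_LA P e
  lam_one := coeff_one_LA P e
  lam_add k x y := by
    rw [LA_add, PowerSeries.coeff_mul, Finset.Nat.sum_antidiagonal_eq_sum_range_succ_mk]

theorem LA_root_mul (hK : HasSplitting K P) (he : e ∈ P.pos) (x : Ke P e) :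
    LA P e (AdjoinRoot.root (KRR.extPoly P e) * x) =
      PowerSeries.rescale (AdjoinRoot.root (KRR.extPoly P e)) (LA P e x) := by
  obtain ⟨D, _, ψ, hψ, w, hw, k₀, hk₀⟩ := exists_split_root P e he
  apply map_injective hψ
  rw [← val_LU, LU_root_mul_of_split P e ψ hK he w hw k₀ hk₀, val_act_br, map_rescale, val_LU]

section D

variable {D : Type v} [CommRing D] (ψ : Ke P e →+* D)

theorem LU_root_mul (hK : HasSplitting K P) (he : e ∈ P.pos) (x : Ke P e) :
    LU P e ψ (AdjoinRoot.root (KRR.extPoly P e) * x) =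
      Act D (br (ψ (AdjoinRoot.root (KRR.extPoly P e)))) (LU P e ψ x) := by
  apply val_injective
  rw [val_LU, LA_root_mul P e hK he, map_rescale, val_act_br, val_LU]

/-- multiplication by `x` is given by an element of `ℤ[D]`. -/
def Sp (x : Ke P e) : Prop :=
  ∃ z : MonoidAlgebra ℤ D, ∀ y, LU P e ψ (x * y) = Act D z (LU P e ψ y)

variable {P e ψ}

theorem Sp.add {x x' : Ke P e} (h : Sp P e ψ x) (h' : Sp P e ψ x') : Sp P e ψ (x + x') := by
  obtain ⟨z, hz⟩ := h
  obtain ⟨z', hz'⟩ := h'
  exact ⟨z + z', fun y => by rw [add_mul, LU_add, hz, hz', act_add]⟩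

theorem Sp.sub {x x' : Ke P e} (h : Sp P e ψ x) (h' : Sp P e ψ x') : Sp P e ψ (x - x') := by
  obtain ⟨z, hz⟩ := h
  obtain ⟨z', hz'⟩ := h'
  exact ⟨z - z', fun y => by rw [sub_mul, LU_sub, hz, hz', act_sub]⟩

theorem Sp.mul {x x' : Ke P e} (h : Sp P e ψ x) (h' : Sp P e ψ x') : Sp P e ψ (x * x') := by
  obtain ⟨z, hz⟩ := h
  obtain ⟨z', hz'⟩ := h'
  exact ⟨z * z', fun y => by rw [mul_assoc, hz, hz', act_mul]⟩

theorem Sp.one : Sp P e ψ 1 := ⟨1, fun y => by rw [one_mul, act_one]⟩

theorem Sp.zero : Sp P e ψ 0 := by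
  have := Sp.sub (Sp.one (P := P) (e := e) (ψ := ψ)) Sp.one
  rwa [sub_self] at this

theorem Sp.pow {x : Ke P e} (h : Sp P e ψ x) (n : ℕ) : Sp P e ψ (x ^ n) := by
  induction n with
  | zero => rw [pow_zero]; exact Sp.one
  | succ n ih => rw [pow_succ]; exact ih.mul h

theorem Sp.sum {ι : Type*} (s : Finset ι) (x : ι → Ke P e) (h : ∀ i ∈ s, Sp P e ψ (x i)) :
    Sp P e ψ (∑ i ∈ s, x i) := by
  classical
  induction s using Finset.induction_on with
  | empty => rw [Finset.sum_empty]; exact Sp.zero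
  | insert a s ha ih =>
    rw [Finset.sum_insert ha]
    exact (h a (Finset.mem_insert_self a s)).add
      (ih fun i hi => h i (Finset.mem_insert_of_mem hi))

theorem Sp_root (hK : HasSplitting K P) (he : e ∈ P.pos) :
    Sp P e ψ (AdjoinRoot.root (KRR.extPoly P e)) := ⟨_, LU_root_mul P e ψ hK he⟩

theorem Sp_of_pos (hK : HasSplitting K P) {a : K} (ha : a ∈ P.pos)
    (w : Fin (P.aug a).toNat → D)
    (hw : ∀ k ≤ (P.aug a).toNat, ψ (AdjoinRoot.of (KRR.extPoly P e) (LambdaOps.lam k a)) = es w k) :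
    Sp P e ψ (AdjoinRoot.of (KRR.extPoly P e) a) := by
  refine ⟨∑ k, br (w k), fun y => LU_of_mul P e ψ a _ (fun b => ?_) y⟩
  refine lamU_mul P hK ha b rfl _ w fun k => ?_
  by_cases hk : k ≤ (P.aug a).toNat
  · exact hw k hk
  · rw [P.lam_eq_zero a ha k (by omega), map_zero, es_of_lt w (by omega)]

theorem lamSeries_one_eq (P : PosStructure K) :
    lamSeries (1 : K) = 1 + PowerSeries.C 1 * PowerSeries.X :=
  lamSeries_line P 1 (isLine_one P)

theorem val_LU_one (hm : 0 < (P.aug e).toNat) :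
    val (LU P e ψ 1) = 1 + PowerSeries.C 1 * PowerSeries.X := by
  have h : LU P e ψ 1 = LU P e ψ (AdjoinRoot.of (KRR.extPoly P e) 1) := by rw [map_one]
  rw [h, LU_of P e ψ hm, val_lamU, lamSeries_one_eq P]
  simp

/-- `λ_t(x) = Σ_k [u_k] • (1 + t)` if the coefficients of `λ_t(x)` are the `e_k(u)`. -/
theorem LU_eq_of_es (hm : 0 < (P.aug e).toNat) {n : ℕ} (u : Fin n → D) {x : Ke P e}
    (hu : ∀ k, ψ (PowerSeries.coeff k (LA P e x)) = es u k) :
    LU P e ψ x = Act D (∑ k, br (u k)) (LU P e ψ 1) := by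
  apply val_injective
  rw [act_sum, val_sum, val_LU]
  ext k
  have h : ∏ i, val (Act D (br (u i)) (LU P e ψ 1)) =
      ∏ i, (1 + PowerSeries.C (u i) * PowerSeries.X) := by
    refine Finset.prod_congr rfl fun i _ => ?_
    rw [val_act_br, val_LU_one hm, rescale_one_add, mul_one]
  rw [h, coeff_prod_one_add, PowerSeries.coeff_map, hu]

/-- The key computation: the coefficients of `λ_t(x y)`. -/
theorem LU_mul_of_es (hm : 0 < (P.aug e).toNat) {n n' : ℕ} (u : Fin n → D) (u' : Fin n' → D)
    {x y : Ke P e} (hx : Sp P e ψ x)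
    (hu : ∀ k, ψ (PowerSeries.coeff k (LA P e x)) = es u k)
    (hu' : ∀ k, ψ (PowerSeries.coeff k (LA P e y)) = es u' k) (k : ℕ) :
    ψ (PowerSeries.coeff k (LA P e (x * y))) =
      es (fun i : Fin (n * n') => u (finProdFinEquiv.symm i).1 * u' (finProdFinEquiv.symm i).2) k := by
  obtain ⟨z, hz⟩ := hx
  have hx1 := LU_eq_of_es hm u hu
  have hy1 := LU_eq_of_es hm u' hu'
  have hx2 : LU P e ψ x = Act D z (LU P e ψ 1) := by rw [← hz 1, mul_one]
  have hxy : LU P e ψ (x * y) = Act D ((∑ k, br (u k)) * ∑ k, br (u' k)) (LU P e ψ 1) := by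
    rw [hz y, hy1, act_comm, ← hx2, hx1, ← act_mul, mul_comm]
  have h1 : val (LU P e ψ (x * y)) =
      ∏ i : Fin (n * n'), (1 + PowerSeries.C (u (finProdFinEquiv.symm i).1 *
        u' (finProdFinEquiv.symm i).2) * PowerSeries.X) := by
    rw [hxy, Finset.sum_mul_sum, ← Finset.sum_product', act_sum, val_sum,
      ← Finset.univ_product_univ.symm, ← finProdFinEquiv.symm.prod_comp]
    refine Finset.prod_congr rfl fun i _ => ?_
    rw [← br_mul, val_act_br, val_LU_one hm, rescale_one_add, mul_one]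
  rw [← coeff_prod_one_add, ← h1, val_LU, PowerSeries.coeff_map]

end D

/-- Multiplicativity of "polynomial λ-series with unit top coefficient". -/
theorem LA_mul (hK : HasSplitting K P) (he : e ∈ P.pos) {n n' : ℕ} {x y : Ke P e}
    (hx : ∀ k, n < k → PowerSeries.coeff k (LA P e x) = 0)
    (hy : ∀ k, n' < k → PowerSeries.coeff k (LA P e y) = 0) :
    (∀ k, n * n' < k → PowerSeries.coeff k (LA P e (x * y)) = 0) ∧
    PowerSeries.coeff (n * n') (LA P e (x * y)) =
      PowerSeries.coeff n (LA P e x) ^ n' * PowerSeries.coeff n' (LA P e y) ^ n := by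
  have hm : 0 < (P.aug e).toNat := by
    have := P.aug_pos e he
    omega
  obtain ⟨D₀, _, ψ₀, hψ₀, w₀, hw₀, k₀, hk₀⟩ := exists_split_root P e he
  have hnt : Nontrivial (Ke P e) := by
    by_contra h
    rw [not_nontrivial_iff_subsingleton] at h
    have h1 := LA_of P e hm (1 : K)
    have := nontrivial_of P
    have h2 : (AdjoinRoot.mk (KRR.extPoly P e)) 1 = 0 := Subsingleton.elim _ _
    rw [AdjoinRoot.mk_eq_zero] at h2
    refine (monic P e).not_dvd_of_degree_lt one_ne_zero ?_ h2
    rw [degree_extPoly, degree_one]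
    exact_mod_cast hm
  choose a b ha hb hab using fun j => P.exists_sub ((rep P e x).coeff j)
  let of := AdjoinRoot.of (KRR.extPoly P e)
  let L : List (ℕ × (ℕ → Ke P e)) :=
    (n, fun k => PowerSeries.coeff k (LA P e x)) ::
    (n', fun k => PowerSeries.coeff k (LA P e y)) ::
    ((List.range (P.aug e).toNat).map (fun j => ((P.aug (a j)).toNat,
        fun k => of (LambdaOps.lam k (a j)))) ++
     (List.range (P.aug e).toNat).map (fun j => ((P.aug (b j)).toNat,
        fun k => of (LambdaOps.lam k (b j)))))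
  obtain ⟨D, _, ψ, hψ, hD⟩ := exists_split_seq L (by
    intro p hp
    simp only [L, List.mem_cons, List.mem_append, List.mem_map] at hp
    rcases hp with rfl | rfl | ⟨j, _, rfl⟩ | ⟨j, _, rfl⟩
    · exact coeff_zero_LA P e x
    · exact coeff_zero_LA P e y
    · simp [LambdaOps.lam_zero]
    · simp [LambdaOps.lam_zero])
  obtain ⟨u, hu⟩ := hD (n, fun k => PowerSeries.coeff k (LA P e x)) (by simp [L])
  obtain ⟨u', hu'⟩ := hD (n', fun k => PowerSeries.coeff k (LA P e y)) (by simp [L])
  have hu2 : ∀ k, ψ (PowerSeries.coeff k (LA P e x)) = es u k := by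
    intro k
    by_cases hk : k ≤ n
    · exact hu k hk
    · rw [hx k (by omega), map_zero, es_of_lt u (by omega)]
  have hu2' : ∀ k, ψ (PowerSeries.coeff k (LA P e y)) = es u' k := by
    intro k
    by_cases hk : k ≤ n'
    · exact hu' k hk
    · rw [hy k (by omega), map_zero, es_of_lt u' (by omega)]
  have hSp : Sp P e ψ x := by
    rw [eq_sum P e x]
    refine Sp.sum _ _ fun j hj => ?_
    refine Sp.mul ?_ ((Sp_root hK he).pow j)
    rw [hab j, map_sub]
    refine Sp.sub ?_ ?_
    · obtain ⟨w, hw⟩ := hD ((P.aug (a j)).toNat, fun k => of (LambdaOps.lam k (a j))) (by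
        simp only [L, List.mem_cons, List.mem_append, List.mem_map]
        exact Or.inr (Or.inr (Or.inl ⟨j, List.mem_range.mpr (Finset.mem_range.mp hj), rfl⟩)))
      exact Sp_of_pos hK (ha j) w hw
    · obtain ⟨w, hw⟩ := hD ((P.aug (b j)).toNat, fun k => of (LambdaOps.lam k (b j))) (by
        simp only [L, List.mem_cons, List.mem_append, List.mem_map]
        exact Or.inr (Or.inr (Or.inr ⟨j, List.mem_range.mpr (Finset.mem_range.mp hj), rfl⟩)))
      exact Sp_of_pos hK (hb j) w hw
  have key := LU_mul_of_es hm u u' hSp hu2 hu2'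
  constructor
  · intro k hk
    apply hψ
    rw [key, map_zero, es_of_lt _ hk]
  · apply hψ
    rw [key, es_top, map_mul, map_pow, map_pow, hu2, hu2', es_top, es_top,
      finProdFinEquiv.symm.prod_comp (fun p : Fin n × Fin n' => u p.1 * u' p.2),
      Fintype.prod_prod_type]
    simp only [Finset.prod_mul_distrib, Finset.prod_const, Finset.card_univ, Fintype.card_fin,
      Finset.prod_pow]

end Groth.Agent.Krr.H477.ElemMul
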