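import Groth.Agent.Krr.H477.ElemMul
import Groth.Agent.Krr.H501.FuncLam
import Mathlib.Data.Nat.Choose.Sum

/-!
# The λ-structure and the positive structure on the elementary extension

`elementaryExtension` : the final statement (S3778), for `K_e = K[T]/(p_e)`.
-/

set_option autoImplicit false

universe v

open Polynomial

namespace Groth.Agent.Krr.H477.ElemPos

open LambdaRing Groth.Agent.Books.Lambda1 Groth.Agent.Krr.H477.Splitting
  Groth.Agent.Krr.H477.LamMul Groth.Agent.Krr.H477.Action Groth.Agent.Krr.H477.ElemExt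
  Groth.Agent.Krr.H477.ElemMul

variable {K : Type v} [CommRing K] [LambdaOps K] (P : PosStructure K) (e : K)

theorem aug_lam (hK : HasSplitting K P) (he : e ∈ P.pos) (i : ℕ) :
    P.aug (LambdaOps.lam i e) = ((P.aug e).toNat.choose i : ℤ) := by
  obtain ⟨L', f, hf, s, hs, hsum⟩ := exists_split P hK e he
  have h1 := aug_lam_multiset_sum L'.posStr s hs i
  rw [hsum, ← hf.isLambdaHom, hf.aug_comp] at h1
  have h2 := aug_multiset_sum L'.posStr s hs
  rw [hsum, hf.aug_comp] at h2
  have h3 : (P.aug e).toNat = Multiset.card s := by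
    have : P.aug e = (Multiset.card s : ℤ) := h2
    rw [this]; simp
  rw [h3]
  exact h1

theorem pos_toNat (he : e ∈ P.pos) : 0 < (P.aug e).toNat := by
  have := P.aug_pos e he
  omega

theorem eval₂_aug (hK : HasSplitting K P) (he : e ∈ P.pos) :
    (KRR.extPoly P e).eval₂ P.aug 1 = 0 := by
  rw [KRR.extPoly, eval₂_finsetSum]
  have h1 : ∀ i ∈ Finset.range ((P.aug e).toNat + 1),
      eval₂ P.aug 1 (C ((-1 : K) ^ i * LambdaOps.lam i e) * X ^ ((P.aug e).toNat - i)) =
        (-1 : ℤ) ^ i * ((P.aug e).toNat.choose i : ℤ) := by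
    intro i _
    rw [eval₂_mul, eval₂_C, eval₂_X_pow, one_pow, mul_one, map_mul, aug_lam P e hK he]
    simp
  rw [Finset.sum_congr rfl h1, Int.alternating_sum_range_choose, if_neg]
  exact (pos_toNat P e he).ne'

/-- The augmentation of `K_e`. -/
noncomputable def augE (hK : HasSplitting K P) (he : e ∈ P.pos) : Ke P e →+* ℤ :=
  AdjoinRoot.lift P.aug 1 (eval₂_aug P e hK he)

theorem augE_of (hK : HasSplitting K P) (he : e ∈ P.pos) (x : K) :
    augE P e hK he (AdjoinRoot.of (KRR.extPoly P e) x) = P.aug x :=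
  AdjoinRoot.lift_of _

theorem augE_root (hK : HasSplitting K P) (he : e ∈ P.pos) :
    augE P e hK he (AdjoinRoot.root (KRR.extPoly P e)) = 1 :=
  AdjoinRoot.lift_root _

/-- positive elements of `K_e`. -/
def posE (hK : HasSplitting K P) (he : e ∈ P.pos) : Set (Ke P e) :=
  {x | ∃ n : ℕ, 0 < n ∧ augE P e hK he x = n ∧
    (∀ k, n < k → PowerSeries.coeff k (LA P e x) = 0) ∧
    IsUnit (PowerSeries.coeff n (LA P e x))}

variable {P e}

theorem posE_add (hK : HasSplitting K P) (he : e ∈ P.pos) {x y : Ke P e}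
    (hx : x ∈ posE P e hK he) (hy : y ∈ posE P e hK he) : x + y ∈ posE P e hK he := by
  obtain ⟨n, hn, hxn, hx0, hxu⟩ := hx
  obtain ⟨n', hn', hyn, hy0, hyu⟩ := hy
  refine ⟨n + n', by omega, by rw [map_add, hxn, hyn]; push_cast; ring, ?_, ?_⟩
  · intro k hk
    rw [LA_add, PowerSeries.coeff_mul]
    refine Finset.sum_eq_zero fun p hp => ?_
    have hp' := Finset.mem_antidiagonal.mp hp
    by_cases h : n < p.1
    · rw [hx0 _ h, zero_mul]
    · rw [hy0 _ (by omega), mul_zero]
  · have h1 : PowerSeries.coeff (n + n') (LA P e (x + y)) =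
        PowerSeries.coeff n (LA P e x) * PowerSeries.coeff n' (LA P e y) := by
      rw [LA_add, PowerSeries.coeff_mul, Finset.sum_eq_single (n, n')]
      · intro p hp hne
        have hp' := Finset.mem_antidiagonal.mp hp
        by_cases h : n < p.1
        · rw [hx0 _ h, zero_mul]
        · rw [hy0 _ ?_, mul_zero]
          by_contra h2
          apply hne
          ext
          · simp only; omega
          · simp only; omega
      · intro h
        exact (h (Finset.mem_antidiagonal.mpr rfl)).elim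
    rw [h1]
    exact hxu.mul hyu

theorem posE_mul (hK : HasSplitting K P) (he : e ∈ P.pos) {x y : Ke P e}
    (hx : x ∈ posE P e hK he) (hy : y ∈ posE P e hK he) : x * y ∈ posE P e hK he := by
  obtain ⟨n, hn, hxn, hx0, hxu⟩ := hx
  obtain ⟨n', hn', hyn, hy0, hyu⟩ := hy
  obtain ⟨h1, h2⟩ := LA_mul P e hK he hx0 hy0
  refine ⟨n * n', Nat.mul_pos hn hn', by rw [map_mul, hxn, hyn]; push_cast; ring, h1, ?_⟩
  rw [h2]
  exact (hxu.pow _).mul (hyu.pow _)

theorem of_mem_posE (hK : HasSplitting K P) (he : e ∈ P.pos) {a : K} (ha : a ∈ P.pos) :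
    AdjoinRoot.of (KRR.extPoly P e) a ∈ posE P e hK he := by
  have hm := pos_toNat P e he
  have h0 : ((P.aug a).toNat : ℤ) = P.aug a := Int.toNat_of_nonneg (P.aug_pos a ha).le
  refine ⟨(P.aug a).toNat, pos_toNat P a ha, by rw [augE_of, h0], ?_, ?_⟩
  · intro k hk
    rw [LA_of P e hm, PowerSeries.coeff_map, coeff_lamSeries, P.lam_eq_zero a ha k (by omega),
      map_zero]
  · rw [LA_of P e hm, PowerSeries.coeff_map, coeff_lamSeries]
    exact (P.isUnit_lam a ha).map _

theorem LA_one (hm : 0 < (P.aug e).toNat) :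
    LA P e 1 = 1 + PowerSeries.C 1 * PowerSeries.X := by
  have h := val_LU_one (P := P) (e := e) (ψ := RingHom.id _) hm
  exact h

theorem LA_root (hK : HasSplitting K P) (he : e ∈ P.pos) :
    LA P e (AdjoinRoot.root (KRR.extPoly P e)) =
      1 + PowerSeries.C (AdjoinRoot.root (KRR.extPoly P e)) * PowerSeries.X := by
  have h := LA_root_mul P e hK he 1
  rwa [mul_one, LA_one (pos_toNat P e he), rescale_one_add, mul_one] at h

theorem isUnit_root (he : e ∈ P.pos) : IsUnit (AdjoinRoot.root (KRR.extPoly P e)) := by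
  have hm := pos_toNat P e he
  have h1 : ∑ i ∈ Finset.range ((P.aug e).toNat + 1),
      AdjoinRoot.of (KRR.extPoly P e) ((-1 : K) ^ i * LambdaOps.lam i e) *
        AdjoinRoot.root (KRR.extPoly P e) ^ ((P.aug e).toNat - i) = 0 := by
    have h := AdjoinRoot.mk_self (f := KRR.extPoly P e)
    have h2 : AdjoinRoot.mk (KRR.extPoly P e) (KRR.extPoly P e) =
        ∑ i ∈ Finset.range ((P.aug e).toNat + 1),
      AdjoinRoot.of (KRR.extPoly P e) ((-1 : K) ^ i * LambdaOps.lam i e) *
        AdjoinRoot.root (KRR.extPoly P e) ^ ((P.aug e).toNat - i) := by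
      conv_lhs => enter [2]; rw [KRR.extPoly]
      rw [map_sum]
      refine Finset.sum_congr rfl fun i _ => ?_
      rw [map_mul, map_pow, AdjoinRoot.mk_X, AdjoinRoot.mk_C]
    rw [← h2, h]
  rw [Finset.sum_range_succ, Nat.sub_self, pow_zero, mul_one] at h1
  have h3 : IsUnit (AdjoinRoot.of (KRR.extPoly P e)
      ((-1 : K) ^ (P.aug e).toNat * LambdaOps.lam (P.aug e).toNat e)) := by
    refine IsUnit.map _ (IsUnit.mul ?_ (P.isUnit_lam e he))
    exact (isUnit_one.neg).pow _
  have h4 : AdjoinRoot.root (KRR.extPoly P e) ∣ ∑ i ∈ Finset.range (P.aug e).toNat,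
      AdjoinRoot.of (KRR.extPoly P e) ((-1 : K) ^ i * LambdaOps.lam i e) *
        AdjoinRoot.root (KRR.extPoly P e) ^ ((P.aug e).toNat - i) := by
    refine Finset.dvd_sum fun i hi => ?_
    refine Dvd.dvd.mul_left (dvd_pow_self _ ?_) _
    have := Finset.mem_range.mp hi
    omega
  have h5 : AdjoinRoot.root (KRR.extPoly P e) ∣ AdjoinRoot.of (KRR.extPoly P e)
      ((-1 : K) ^ (P.aug e).toNat * LambdaOps.lam (P.aug e).toNat e) := by
    obtain ⟨c, hc⟩ := h4
    exact ⟨-c, by linear_combination h1 - hc⟩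
  exact isUnit_of_dvd_unit h5 h3

theorem root_mem_posE (hK : HasSplitting K P) (he : e ∈ P.pos) :
    AdjoinRoot.root (KRR.extPoly P e) ∈ posE P e hK he := by
  refine ⟨1, one_pos, by rw [augE_root]; simp, ?_, ?_⟩
  · intro k hk
    rw [LA_root hK he, map_add, PowerSeries.coeff_one, if_neg (by omega), PowerSeries.coeff_C_mul,
      PowerSeries.coeff_X, if_neg (by omega)]
    simp
  · rw [coeff_one_LA]
    exact isUnit_root he

theorem lam_of (he : e ∈ P.pos) (i : ℕ) (a : K) :
    PowerSeries.coeff i (LA P e (AdjoinRoot.of (KRR.extPoly P e) a)) =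
      AdjoinRoot.of (KRR.extPoly P e) (LambdaOps.lam i a) := by
  rw [LA_of P e (pos_toNat P e he), PowerSeries.coeff_map, coeff_lamSeries]

theorem lam_root (hK : HasSplitting K P) (he : e ∈ P.pos) {i : ℕ} (hi : 2 ≤ i) :
    PowerSeries.coeff i (LA P e (AdjoinRoot.root (KRR.extPoly P e))) = 0 := by
  rw [LA_root hK he, map_add, PowerSeries.coeff_one, if_neg (by omega), PowerSeries.coeff_C_mul,
    PowerSeries.coeff_X, if_neg (by omega)]
  simp

section q

open Groth.Agent.Krr.H501

/-- `λ^{k+1}(e) = λ^{k+1}(e-ℓ) + ℓ λ^k(e-ℓ)`. -/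
theorem coeff_succ_q (hK : HasSplitting K P) (he : e ∈ P.pos) (k : ℕ) :
    AdjoinRoot.of (KRR.extPoly P e) (LambdaOps.lam (k + 1) e) =
      PowerSeries.coeff (k + 1) (LA P e (AdjoinRoot.of (KRR.extPoly P e) e -
        AdjoinRoot.root (KRR.extPoly P e))) +
      AdjoinRoot.root (KRR.extPoly P e) * PowerSeries.coeff k
        (LA P e (AdjoinRoot.of (KRR.extPoly P e) e - AdjoinRoot.root (KRR.extPoly P e))) := by
  have h : LA P e (AdjoinRoot.of (KRR.extPoly P e) e) =
      LA P e (AdjoinRoot.root (KRR.extPoly P e)) *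
        LA P e (AdjoinRoot.of (KRR.extPoly P e) e - AdjoinRoot.root (KRR.extPoly P e)) := by
    rw [← LA_add, add_sub_cancel]
  have h2 := congrArg (PowerSeries.coeff (k + 1)) h
  rw [lam_of he, LA_root hK he, add_mul, one_mul, map_add, mul_assoc, PowerSeries.coeff_C_mul,
    PowerSeries.coeff_succ_X_mul] at h2
  exact h2

theorem coeff_q_eq_zero (hK : HasSplitting K P) (he : e ∈ P.pos) {k : ℕ}
    (hk : (P.aug e).toNat ≤ k) : PowerSeries.coeff k (LA P e (AdjoinRoot.of (KRR.extPoly P e) e -
        AdjoinRoot.root (KRR.extPoly P e))) = 0 := by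
  have h0 : PowerSeries.coeff (P.aug e).toNat (LA P e (AdjoinRoot.of (KRR.extPoly P e) e -
      AdjoinRoot.root (KRR.extPoly P e))) = 0 := by
    letI := ops P e
    have h1 := FuncLam.mk_extPart e (AdjoinRoot.of (KRR.extPoly P e))
      (fun i x => (lam_of he i x).symm) (AdjoinRoot.root (KRR.extPoly P e))
      (fun i hi => lam_root hK he hi) (P.aug e).toNat
    rw [← ExtPolyAlg.extPoly_eq_extPart, AdjoinRoot.eval₂_root] at h1
    have h2 : (-1 : Ke P e) ^ (P.aug e).toNat * PowerSeries.coeff (P.aug e).toNat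
        (LA P e (AdjoinRoot.of (KRR.extPoly P e) e - AdjoinRoot.root (KRR.extPoly P e))) = 0 :=
      h1.symm
    have h3 : IsUnit ((-1 : Ke P e) ^ (P.aug e).toNat) := (isUnit_one.neg).pow _
    exact (h3.mul_right_eq_zero).mp h2
  induction k, hk using Nat.le_induction with
  | base => exact h0
  | succ k hk ih =>
    have h1 := coeff_succ_q hK he k
    rw [ih, mul_zero, add_zero, P.lam_eq_zero e he (k + 1) (by omega), map_zero] at h1
    exact h1.symm

theorem q_mem_posE (hK : HasSplitting K P) (he : e ∈ P.pos) (h2 : 2 ≤ P.aug e) :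
    AdjoinRoot.of (KRR.extPoly P e) e - AdjoinRoot.root (KRR.extPoly P e) ∈ posE P e hK he := by
  obtain ⟨n, hn⟩ : ∃ n, (P.aug e).toNat = n + 1 := ⟨(P.aug e).toNat - 1, by omega⟩
  refine ⟨n, by omega, ?_, ?_, ?_⟩
  · rw [map_sub, augE_of, augE_root]
    omega
  · intro k hk
    exact coeff_q_eq_zero hK he (by omega)
  · have h1 := coeff_succ_q hK he n
    rw [coeff_q_eq_zero hK he hn.le, zero_add, ← hn] at h1
    have h3 : IsUnit (AdjoinRoot.of (KRR.extPoly P e) (LambdaOps.lam (P.aug e).toNat e)) :=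
      (P.isUnit_lam e he).map _
    rw [h1] at h3
    exact isUnit_of_mul_isUnit_right h3

end q

/-- The positive structure on `K_e`. -/
noncomputable def posStr (hK : HasSplitting K P) (he : e ∈ P.pos) :
    @PosStructure (Ke P e) _ (ops P e) :=
  letI := ops P e
  { aug := augE P e hK he
    aug_surjective := fun n => by
      obtain ⟨x, hx⟩ := P.aug_surjective n
      exact ⟨AdjoinRoot.of _ x, by rw [augE_of, hx]⟩
    pos := posE P e hK he
    add_mem := fun x y hx hy => posE_add hK he hx hy
    mul_mem := fun x y hx hy => posE_mul hK he hx hy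
    natCast_mem := fun n hn => by
      have := of_mem_posE hK he (P.natCast_mem n hn)
      rwa [map_natCast] at this
    exists_sub := fun x => by
      choose a b ha hb hab using fun j => P.exists_sub ((rep P e x).coeff j)
      have key : ∀ (c : ℕ → K), (∀ j, c j ∈ P.pos) → ∀ s : Finset ℕ,
          1 + ∑ j ∈ s, AdjoinRoot.of (KRR.extPoly P e) (c j) *
            AdjoinRoot.root (KRR.extPoly P e) ^ j ∈ posE P e hK he := by
        intro c hc s
        have hone : (1 : Ke P e) ∈ posE P e hK he := by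
          have := of_mem_posE hK he (P.natCast_mem 1 one_pos)
          rwa [Nat.cast_one, map_one] at this
        have hpow : ∀ j : ℕ, AdjoinRoot.root (KRR.extPoly P e) ^ j ∈ posE P e hK he := by
          intro j
          induction j with
          | zero => rw [pow_zero]; exact hone
          | succ j ih => rw [pow_succ]; exact posE_mul hK he ih (root_mem_posE hK he)
        induction s using Finset.induction_on with
        | empty => rw [Finset.sum_empty, add_zero]; exact hone
        | insert j s hj ih =>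
          rw [Finset.sum_insert hj, add_left_comm]
          exact posE_add hK he (posE_mul hK he (of_mem_posE hK he (hc j)) (hpow j)) ih
      refine ⟨_, _, key a ha (Finset.range (P.aug e).toNat),
        key b hb (Finset.range (P.aug e).toNat), ?_⟩
      conv_lhs => rw [eq_sum P e x]
      rw [add_sub_add_left_eq_sub, ← Finset.sum_sub_distrib]
      refine Finset.sum_congr rfl fun j _ => ?_
      rw [hab j, map_sub, sub_mul]
    aug_pos := fun x hx => by
      obtain ⟨n, hn, hxn, -, -⟩ := hx
      rw [hxn]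
      exact_mod_cast hn
    lam_eq_zero := fun x hx i hi => by
      obtain ⟨n, hn, hxn, hx0, -⟩ := hx
      rw [hxn] at hi
      exact hx0 i (by exact_mod_cast hi)
    isUnit_lam := fun x hx => by
      obtain ⟨n, hn, hxn, -, hxu⟩ := hx
      rw [hxn, Int.toNat_natCast]
      exact hxu }

theorem of_injective (he : e ∈ P.pos) :
    Function.Injective (AdjoinRoot.of (KRR.extPoly P e)) := by
  intro a b hab
  have h1 := rep_of P e (pos_toNat P e he) a
  rw [hab, rep_of P e (pos_toNat P e he) b] at h1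
  exact (C_injective h1).symm

end Groth.Agent.Krr.H477.ElemPos
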