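import Mathlib.RingTheory.AdjoinRoot
import Mathlib.RingTheory.Polynomial.Vieta
import Mathlib.RingTheory.MvPolynomial.Symmetric.FundamentalTheorem
import Mathlib.RingTheory.PowerSeries.Basic
import Mathlib.Tactic.LinearCombination
import Mathlib.Tactic.Ring

/-!
# Splitting monic polynomials; symmetric functions of the roots

* `es w i` : the `i`-th elementary symmetric function of a finite family `w : Fin n → D`.
* `coeff_prod_one_add` : the coefficients of `∏ (1 + w_k t)`.
* `exists_split_list` : a finite list of monic polynomials over a nontrivial commutative ring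
  splits in an injective extension.
* `exists_transfer` : a power series built symmetrically from the roots is universally a
  power series in the elementary symmetric functions.
-/

set_option autoImplicit false

universe v

open Polynomial

namespace Groth.Agent.Krr.H477.Splitting

section es

variable {D : Type v} [CommRing D] {n : ℕ}

/-- The elementary symmetric function `e_i(w)`. -/
def es (w : Fin n → D) (i : ℕ) : D :=
  ∑ t ∈ Finset.powersetCard i (Finset.univ : Finset (Fin n)), ∏ j ∈ t, w j

theorem es_zero (w : Fin n → D) : es w 0 = 1 := by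
  simp [es]

theorem es_of_lt (w : Fin n → D) {i : ℕ} (hi : n < i) : es w i = 0 := by
  rw [es, Finset.powersetCard_eq_empty.mpr (by simpa using hi), Finset.sum_empty]

theorem es_one (w : Fin n → D) : es w 1 = ∑ k, w k := by
  simp [es, Finset.powersetCard_one]

theorem es_top (w : Fin n → D) : es w n = ∏ k, w k := by
  have h := Finset.powersetCard_self (Finset.univ : Finset (Fin n))
  rw [Finset.card_univ, Fintype.card_fin] at h
  rw [es, h, Finset.sum_singleton]

theorem es_eq_esymm (w : Fin n → D) (i : ℕ) :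
    es w i = ((Finset.univ : Finset (Fin n)).val.map w).esymm i := by
  rw [es, Finset.esymm_map_val]

theorem map_es {D' : Type*} [CommRing D'] (φ : D →+* D') (w : Fin n → D) (i : ℕ) :
    φ (es w i) = ∑ t ∈ Finset.powersetCard i (Finset.univ : Finset (Fin n)), ∏ j ∈ t, φ (w j) := by
  simp [es, map_sum, map_prod]

theorem coeff_prod_one_add (w : Fin n → D) (i : ℕ) :
    PowerSeries.coeff i (∏ k, (1 + PowerSeries.C (w k) * PowerSeries.X)) = es w i := by
  rw [Finset.prod_one_add, map_sum, es, ← Finset.sum_filter_add_sum_filter_not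
    (Finset.univ : Finset (Fin n)).powerset (fun t => t.card = i)]
  have h1 : ∀ t : Finset (Fin n), PowerSeries.coeff i (∏ k ∈ t,
      (PowerSeries.C (w k) * PowerSeries.X : PowerSeries D)) =
      if i = t.card then ∏ k ∈ t, w k else 0 := by
    intro t
    rw [Finset.prod_mul_distrib, Finset.prod_const, ← map_prod, PowerSeries.coeff_C_mul,
      PowerSeries.coeff_X_pow]
    split_ifs <;> simp
  have h2 : ∑ t ∈ (Finset.univ : Finset (Fin n)).powerset with ¬ t.card = i,
      PowerSeries.coeff i (∏ k ∈ t, (PowerSeries.C (w k) * PowerSeries.X : PowerSeries D)) = 0 := by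
    refine Finset.sum_eq_zero fun t ht => ?_
    rw [h1, if_neg (fun h => (Finset.mem_filter.mp ht).2 h.symm)]
  rw [h2, add_zero, Finset.powersetCard_eq_filter]
  refine Finset.sum_congr rfl fun t ht => ?_
  rw [h1, if_pos (Finset.mem_filter.mp ht).2.symm]

theorem prod_X_sub_C (w : Fin n → D) :
    ∏ k, (X - C (w k)) = ∑ j ∈ Finset.range (n + 1), C ((-1) ^ j * es w j) * X ^ (n - j) := by
  have h := Multiset.prod_X_sub_X_eq_sum_esymm ((Finset.univ : Finset (Fin n)).val.map w)
  rw [Multiset.map_map] at h
  have hc : Multiset.card ((Finset.univ : Finset (Fin n)).val.map w) = n := by simp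
  rw [hc] at h
  have h2 : (Multiset.map ((fun t => X - C t) ∘ w) (Finset.univ : Finset (Fin n)).val).prod =
      ∏ k, (X - C (w k)) := rfl
  rw [← h2, h]
  refine Finset.sum_congr rfl fun j _ => ?_
  rw [es_eq_esymm, C_mul, C_pow, C_neg, C_1]
  ring

/-- evaluation of `∏ (T - w_k)` at `x`. -/
theorem prod_sub (w : Fin n → D) (x : D) :
    ∏ k, (x - w k) = ∑ j ∈ Finset.range (n + 1), (-1) ^ j * es w j * x ^ (n - j) := by
  have h := congrArg (Polynomial.eval x) (prod_X_sub_C w)
  rw [eval_prod, eval_finsetSum] at h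
  simpa using h

theorem coeff_sum_C_mul (d : ℕ → D) {j : ℕ} (hj : j ≤ n) : Polynomial.coeff
      (∑ j ∈ Finset.range (n + 1), C (d j) * X ^ (n - j)) (n - j) = d j := by
  rw [finsetSum_coeff, Finset.sum_eq_single j]
  · simp
  · intro i hi hij
    rw [coeff_C_mul_X_pow, if_neg]
    have := Finset.mem_range.mp hi
    omega
  · intro h
    exact absurd (Finset.mem_range.mpr (by omega)) h

theorem es_eq_of_prod_eq (w : Fin n → D) (c : ℕ → D)
    (h : ∑ j ∈ Finset.range (n + 1), C ((-1) ^ j * c j) * X ^ (n - j) = ∏ k, (X - C (w k)))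
    {j : ℕ} (hj : j ≤ n) : c j = es w j := by
  rw [prod_X_sub_C] at h
  have h2 := congrArg (fun q => Polynomial.coeff q (n - j)) h
  simp only [coeff_sum_C_mul _ hj] at h2
  have h3 : ((-1 : D) ^ j) * ((-1) ^ j) = 1 := by
    rw [← mul_pow]; simp
  linear_combination ((-1) ^ j) * h2 - (c j - es w j) * h3

end es

section split

/-- A monic polynomial splits in an injective extension. -/
theorem exists_split_monic {A : Type v} [CommRing A] [Nontrivial A] (q : A[X]) (hq : q.Monic)
    (n : ℕ) (hn : q.natDegree = n) :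
    ∃ (D : Type v) (_ : CommRing D) (_ : Nontrivial D) (ψ : A →+* D), Function.Injective ψ ∧
      ∃ w : Fin n → D, q.map ψ = ∏ k, (X - C (w k)) := by
  obtain ⟨S, _, _, _, _, _, hS⟩ := hq.exists_splits_map
  obtain ⟨m, hm⟩ := splits_iff_exists_multiset.mp hS
  rw [(hq.map _).leadingCoeff, C_1, one_mul] at hm
  have hcard : Multiset.card m = n := by
    have h1 := congrArg natDegree hm
    rw [hq.natDegree_map, natDegree_multiset_prod_X_sub_C_eq_card, hn] at h1
    exact h1.symm
  refine ⟨S, inferInstance, inferInstance, algebraMap A S, FaithfulSMul.algebraMap_injective A S, ?_⟩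
  induction m using Quot.induction_on with
  | h l =>
    have hl : l.length = n := by simpa using hcard
    subst hl
    refine ⟨l.get, ?_⟩
    rw [hm, ← List.prod_ofFn]
    have : List.ofFn (fun k => X - C (l.get k)) = l.map (fun a => X - C a) := by
      rw [← Function.comp_def (fun a => X - C a) l.get, ← List.map_ofFn, List.ofFn_get]
    rw [this]
    simp

/-- A finite list of monic polynomials splits in a common injective extension. -/
theorem exists_split_list {A : Type v} [CommRing A] [Nontrivial A] (l : List A[X])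
    (hl : ∀ q ∈ l, q.Monic) :
    ∃ (D : Type v) (_ : CommRing D) (_ : Nontrivial D) (ψ : A →+* D), Function.Injective ψ ∧
      ∀ q ∈ l, ∃ w : Fin q.natDegree → D, q.map ψ = ∏ k, (X - C (w k)) := by
  induction l with
  | nil => exact ⟨A, inferInstance, inferInstance, RingHom.id A, Function.injective_id, by simp⟩
  | cons q l ih =>
    obtain ⟨D, _, _, ψ, hψ, hD⟩ := ih (fun r hr => hl r (List.mem_cons_of_mem _ hr))
    have hqm : (q.map ψ).Monic := (hl q List.mem_cons_self).map ψ
    obtain ⟨D', _, _, ψ', hψ', w, hw⟩ := exists_split_monic (q.map ψ) hqm q.natDegree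
      ((hl q List.mem_cons_self).natDegree_map ψ)
    refine ⟨D', inferInstance, inferInstance, ψ'.comp ψ, hψ'.comp hψ, ?_⟩
    intro r hr
    rcases List.mem_cons.mp hr with rfl | hr
    · exact ⟨w, by rw [← Polynomial.map_map, hw]⟩
    · obtain ⟨w', hw'⟩ := hD r hr
      refine ⟨ψ' ∘ w', ?_⟩
      rw [← Polynomial.map_map, hw', Polynomial.map_prod]
      simp

/-- The polynomial `Σ_j (-1)^j c_j X^{n-j}`. -/
noncomputable def chp {A : Type v} [CommRing A] (n : ℕ) (c : ℕ → A) : A[X] :=
  ∑ j ∈ Finset.range (n + 1), C ((-1) ^ j * c j) * X ^ (n - j)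

theorem chp_eq {A : Type v} [CommRing A] (n : ℕ) (c : ℕ → A) (hc : c 0 = 1) :
    ∃ r : A[X], chp n c = X ^ n + r ∧ r.degree < n := by
  refine ⟨∑ j ∈ Finset.range n, C ((-1) ^ (j + 1) * c (j + 1)) * X ^ (n - (j + 1)), ?_, ?_⟩
  · rw [chp, Finset.sum_range_succ', pow_zero, hc, mul_one, C_1, one_mul, Nat.sub_zero, add_comm]
  · rw [degree_lt_iff_coeff_zero]
    intro k hk
    rw [finsetSum_coeff]
    refine Finset.sum_eq_zero fun j hj => ?_
    rw [coeff_C_mul_X_pow, if_neg]
    have := Finset.mem_range.mp hj
    omega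

theorem chp_monic {A : Type v} [CommRing A] (n : ℕ) (c : ℕ → A) (hc : c 0 = 1) :
    (chp n c).Monic := by
  obtain ⟨r, hr, hd⟩ := chp_eq n c hc
  rw [hr]
  exact monic_X_pow_add hd

theorem natDegree_chp {A : Type v} [CommRing A] [Nontrivial A] (n : ℕ) (c : ℕ → A)
    (hc : c 0 = 1) : (chp n c).natDegree = n := by
  obtain ⟨r, hr, hd⟩ := chp_eq n c hc
  rw [hr, natDegree_add_eq_left_of_degree_lt (by rwa [degree_X_pow]), natDegree_X_pow]

/-- A finite list of sequences `(n, c)` with `c_0 = 1`: in some injective extension, each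
`c_0, …, c_n` are the elementary symmetric functions of `n` elements. -/
theorem exists_split_seq {A : Type v} [CommRing A] [Nontrivial A] (L : List (ℕ × (ℕ → A)))
    (hL : ∀ p ∈ L, p.2 0 = 1) :
    ∃ (D : Type v) (_ : CommRing D) (ψ : A →+* D), Function.Injective ψ ∧
      ∀ p ∈ L, ∃ w : Fin p.1 → D, ∀ k ≤ p.1, ψ (p.2 k) = es w k := by
  obtain ⟨D, _, _, ψ, hψ, h⟩ := exists_split_list (L.map (fun p => chp p.1 p.2)) (by
    intro q hq
    obtain ⟨p, hp, rfl⟩ := List.mem_map.mp hq
    exact chp_monic _ _ (hL p hp))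
  refine ⟨D, inferInstance, ψ, hψ, ?_⟩
  intro p hp
  have h1 := h (chp p.1 p.2) (List.mem_map.mpr ⟨p, hp, rfl⟩)
  rw [natDegree_chp _ _ (hL p hp)] at h1
  obtain ⟨w, hw⟩ := h1
  refine ⟨w, fun k hk => ?_⟩
  refine es_eq_of_prod_eq w (fun k => ψ (p.2 k)) ?_ hk
  rw [← hw, chp, Polynomial.map_sum]
  refine Finset.sum_congr rfl fun j _ => ?_
  simp

end split

section transfer

variable {R : Type v} [CommRing R] {n : ℕ}

theorem exists_h (s : Fin n → R) (F : MvPolynomial (Fin n) R) (hF : F.IsSymmetric) :
    ∃ h : R, ∀ (D : Type v) [CommRing D] (φ : R →+* D) (w : Fin n → D),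
      (∀ k : Fin n, es w (k + 1) = φ (s k)) → MvPolynomial.eval₂ φ w F = φ h := by
  obtain ⟨Q, hQ⟩ := MvPolynomial.esymmAlgHom_surjective (σ := Fin n) R (n := n) (by simp) ⟨F, hF⟩
  have hQ' : MvPolynomial.aeval (fun i : Fin n => MvPolynomial.esymm (Fin n) R (i + 1)) Q = F := by
    rw [← MvPolynomial.esymmAlgHom_apply, hQ]
  refine ⟨MvPolynomial.eval s Q, fun D _ φ w hw => ?_⟩
  have h1 : ∀ k : Fin n, MvPolynomial.eval₂ φ w (MvPolynomial.esymm (Fin n) R (k + 1)) =
      φ (s k) := by
    intro k
    rw [← hw k, MvPolynomial.esymm, es, MvPolynomial.eval₂_sum]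
    refine Finset.sum_congr rfl fun t _ => ?_
    rw [MvPolynomial.eval₂_prod]
    refine Finset.prod_congr rfl fun j _ => ?_
    rw [MvPolynomial.eval₂_X]
  have h2 : (MvPolynomial.eval₂Hom φ w).comp (MvPolynomial.aeval
      (fun i : Fin n => MvPolynomial.esymm (Fin n) R (i + 1))).toRingHom =
      φ.comp (MvPolynomial.eval s) := by
    apply MvPolynomial.ringHom_ext
    · intro r
      simp
    · intro k
      simpa using h1 k
  have h3 := congrArg (fun g => g Q) h2
  rw [← hQ']
  exact h3

theorem map_rescale {D : Type*} [CommRing D] (φ : R →+* D) (a : R) (f : PowerSeries R) :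
    PowerSeries.map φ (PowerSeries.rescale a f) =
      PowerSeries.rescale (φ a) (PowerSeries.map φ f) := by
  ext k
  simp [PowerSeries.coeff_rescale]

/-- The symmetric expression `∏_{|S| = i} g(w_S t)`. -/
noncomputable def symProd {D : Type v} [CommRing D] (w : Fin n → D) (i : ℕ) (g : PowerSeries D) :
    PowerSeries D :=
  ∏ S ∈ Finset.powersetCard i (Finset.univ : Finset (Fin n)),
    PowerSeries.rescale (∏ j ∈ S, w j) g

theorem map_symProd {D D' : Type v} [CommRing D] [CommRing D'] (φ : D →+* D') (w : Fin n → D)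
    (i : ℕ) (g : PowerSeries D) :
    PowerSeries.map φ (symProd w i g) = symProd (φ ∘ w) i (PowerSeries.map φ g) := by
  rw [symProd, symProd, map_prod]
  refine Finset.prod_congr rfl fun S _ => ?_
  rw [map_rescale, map_prod]
  rfl

theorem symProd_comp_perm {D : Type v} [CommRing D] (w : Fin n → D) (i : ℕ) (g : PowerSeries D)
    (σ : Equiv.Perm (Fin n)) : symProd (w ∘ σ) i g = symProd w i g := by
  rw [symProd, symProd]
  refine Finset.prod_bij (fun S _ => S.map σ.toEmbedding) ?_ ?_ ?_ ?_
  · intro S hS
    rw [Finset.mem_powersetCard] at hS ⊢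
    exact ⟨Finset.subset_univ _, by rw [Finset.card_map, hS.2]⟩
  · intro S _ T _ h
    exact Finset.map_injective _ h
  · intro S hS
    refine ⟨S.map σ.symm.toEmbedding, ?_, ?_⟩
    · rw [Finset.mem_powersetCard] at hS ⊢
      exact ⟨Finset.subset_univ _, by rw [Finset.card_map, hS.2]⟩
    · ext x
      simp
  · intro S _
    rw [Finset.prod_map]
    rfl

/-- Universality: a power series `∏_{|S| = i} g(w_S t)` built from the roots comes from the base
ring, by a formula depending only on the elementary symmetric functions of the roots. -/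
theorem exists_transfer (s : Fin n → R) (i : ℕ) (g : PowerSeries R) :
    ∃ h : PowerSeries R, ∀ (D : Type v) [CommRing D] (φ : R →+* D) (w : Fin n → D),
      (∀ k : Fin n, es w (k + 1) = φ (s k)) →
        symProd w i (PowerSeries.map φ g) = PowerSeries.map φ h := by
  let F : PowerSeries (MvPolynomial (Fin n) R) :=
    symProd (fun k => MvPolynomial.X k) i (PowerSeries.map MvPolynomial.C g)
  have hF : ∀ k, (PowerSeries.coeff k F).IsSymmetric := by
    intro k σ
    have h1 : PowerSeries.map (MvPolynomial.rename σ : MvPolynomial (Fin n) R →ₐ[R] _).toRingHom F =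
        F := by
      change PowerSeries.map _ (symProd _ _ _) = _
      rw [map_symProd]
      have h2 : PowerSeries.map (MvPolynomial.rename σ : MvPolynomial (Fin n) R →ₐ[R] _).toRingHom
          (PowerSeries.map MvPolynomial.C g) = PowerSeries.map MvPolynomial.C g := by
        ext1 j
        simp
      have h3 : (MvPolynomial.rename σ : MvPolynomial (Fin n) R →ₐ[R] _).toRingHom ∘
          (fun k => (MvPolynomial.X k : MvPolynomial (Fin n) R)) =
          (fun k => (MvPolynomial.X k : MvPolynomial (Fin n) R)) ∘ σ := by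
        ext1 j
        simp
      rw [h2, h3, symProd_comp_perm]
    have h4 := congrArg (PowerSeries.coeff k) h1
    rw [PowerSeries.coeff_map] at h4
    exact h4
  choose h hh using fun k => exists_h s (PowerSeries.coeff k F) (hF k)
  refine ⟨PowerSeries.mk h, fun D _ φ w hw => ?_⟩
  have h5 : PowerSeries.map (MvPolynomial.eval₂Hom φ w) F = symProd w i (PowerSeries.map φ g) := by
    change PowerSeries.map _ (symProd _ _ _) = _
    rw [map_symProd]
    congr 1
    · ext k
      simp
    · ext1 j
      simp
  rw [← h5]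
  ext k
  rw [PowerSeries.coeff_map, PowerSeries.coeff_map, PowerSeries.coeff_mk]
  exact hh k D φ w hw

end transfer

end Groth.Agent.Krr.H477.Splitting
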