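import Groth.Agent.Books.Lambda3
import Groth.Agent.Krr.H477.Splitting

/-!
# `λ_t(λ^i(a) b) = ∏_{|S| = i} λ_{w_S t}(b)` when `λ_t(a) = ∏ (1 + w_k t)`

`(K, P)` has the splitting property, `a` is positive, `b` arbitrary; the roots `w_k` may live in any
commutative ring `D` under `K`.
-/

set_option autoImplicit false

universe v

namespace Groth.Agent.Krr.H477.LamMul

open LambdaRing Groth.Agent.Books.Lambda1 Groth.Agent.Krr.H477.Splitting

variable {K : Type v} [CommRing K] [LambdaOps K]

theorem rescale_one_add {D : Type*} [CommRing D] (u v : D) :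
    PowerSeries.rescale u (1 + PowerSeries.C v * PowerSeries.X) =
      1 + PowerSeries.C (u * v) * PowerSeries.X := by
  ext k
  rw [PowerSeries.coeff_rescale]
  rcases k with _ | _ | k
  · simp
  · simp [PowerSeries.coeff_one, mul_comm]
  · simp [PowerSeries.coeff_one]

/-- multiplication by a line element rescales `λ_t`. -/
theorem lamSeries_line_mul_pos (P : PosStructure K) (hK : HasSplitting K P) {u : K}
    (hu : P.IsLine u) {c : K} (hc : c ∈ P.pos) :
    lamSeries (u * c) = PowerSeries.rescale u (lamSeries c) := by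
  obtain ⟨L', f, hf, s, hs, hsum⟩ := exists_split P hK c hc
  have hinj : Function.Injective (PowerSeries.map f) := by
    intro x y hxy
    ext k
    apply hf.injective
    have := congrArg (PowerSeries.coeff k) hxy
    simpa using this
  apply hinj
  rw [map_lamSeries hf.isLambdaHom, map_rescale, map_lamSeries hf.isLambdaHom, map_mul, ← hsum,
    lamSeries_multiset_sum L'.posStr s hs]
  have h1 : f u * s.sum = (s.map (fun v => f u * v)).sum := by
    rw [Multiset.sum_map_mul_left, Multiset.map_id']
  rw [h1, lamSeries_multiset_sum L'.posStr, Multiset.map_map, map_multiset_prod, Multiset.map_map]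
  · congr 1
    apply Multiset.map_congr rfl
    intro v _
    simp only [Function.comp_apply]
    rw [rescale_one_add]
  · intro v hv
    obtain ⟨w, hw, rfl⟩ := Multiset.mem_map.mp hv
    exact IsLine_mul _ (IsLine_map hf hu) (hs w hw)

theorem lamSeries_line_mul (P : PosStructure K) (hK : HasSplitting K P) {u : K}
    (hu : P.IsLine u) (b : K) :
    lamSeries (u * b) = PowerSeries.rescale u (lamSeries b) := by
  obtain ⟨c, d, hc, hd, rfl⟩ := P.exists_sub b
  have h1 := lamSeries_line_mul_pos P hK hu hc
  have h2 := lamSeries_line_mul_pos P hK hu hd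
  have h3 : lamSeries (u * (c - d)) * lamSeries (u * d) = lamSeries (u * c) := by
    rw [← lamSeries_add]; congr 1; ring
  have h4 : lamSeries (c - d) * lamSeries d = lamSeries c := by
    rw [← lamSeries_add]; congr 1; ring
  have h5 : PowerSeries.rescale u (lamSeries (c - d)) * lamSeries (u * d) = lamSeries (u * c) := by
    rw [h2, ← map_mul, h4, h1]
  exact (isUnit_lamSeries (u * d)).mul_right_cancel (h3.trans h5.symm)

theorem IsLine_prod (P : PosStructure K) {n : ℕ} (u : Fin n → K) (hu : ∀ k, P.IsLine (u k))
    (S : Finset (Fin n)) : P.IsLine (∏ k ∈ S, u k) := by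
  classical
  induction S using Finset.induction_on with
  | empty => simpa using isLine_one P
  | insert a S ha ih => rw [Finset.prod_insert ha]; exact IsLine_mul P (hu a) ih

theorem lamSeries_sum {ι : Type*} (s : Finset ι) (x : ι → K) :
    lamSeries (∑ i ∈ s, x i) = ∏ i ∈ s, lamSeries (x i) := by
  classical
  induction s using Finset.induction_on with
  | empty => simp [lamSeries_zero]
  | insert a s ha ih => rw [Finset.sum_insert ha, Finset.prod_insert ha, lamSeries_add, ih]

theorem lamSeries_sum_line (P : PosStructure K) {n : ℕ} (u : Fin n → K)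
    (hu : ∀ k, P.IsLine (u k)) :
    lamSeries (∑ k, u k) = ∏ k, (1 + PowerSeries.C (u k) * PowerSeries.X) := by
  rw [lamSeries_sum]
  exact Finset.prod_congr rfl fun k _ => lamSeries_line P (u k) (hu k)

theorem lam_sum_line (P : PosStructure K) {n : ℕ} (u : Fin n → K)
    (hu : ∀ k, P.IsLine (u k)) (i : ℕ) : LambdaOps.lam i (∑ k, u k) = es u i := by
  rw [← coeff_lamSeries, lamSeries_sum_line P u hu, coeff_prod_one_add]

theorem map_injective {D D' : Type*} [CommRing D] [CommRing D'] {f : D →+* D'}
    (hf : Function.Injective f) : Function.Injective (PowerSeries.map f) := by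
  intro x y hxy
  ext k
  apply hf
  have := congrArg (PowerSeries.coeff k) hxy
  simpa using this

/-- Main identity. -/
theorem map_lamSeries_lam_mul (P : PosStructure K) (hK : HasSplitting K P) {a : K}
    (ha : a ∈ P.pos) (b : K) (i : ℕ) {n : ℕ} (hn : (P.aug a).toNat = n) {D : Type v} [CommRing D]
    (φ : K →+* D) (w : Fin n → D) (hw : ∀ k : ℕ, φ (LambdaOps.lam k a) = es w k) :
    PowerSeries.map φ (lamSeries (LambdaOps.lam i a * b)) =
      symProd w i (PowerSeries.map φ (lamSeries b)) := by
  obtain ⟨h, hh⟩ := exists_transfer (fun k : Fin n => LambdaOps.lam (k + 1) a) i (lamSeries b)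
  rw [hh D φ w (fun k => (hw _).symm)]
  congr 1
  obtain ⟨L', hL', f, hf, u, hu, hsum⟩ := Groth.Agent.Books.Lambda3.exists_split_fin P hK a ha n hn
  apply map_injective hf.injective
  have hes : ∀ k, f (LambdaOps.lam k a) = es u k := by
    intro k
    rw [hf.isLambdaHom, ← hsum, lam_sum_line L'.posStr u hu]
  rw [← hh L'.carrier f u (fun k => (hes _).symm), map_lamSeries hf.isLambdaHom,
    map_lamSeries hf.isLambdaHom, map_mul, hes, es, Finset.sum_mul, lamSeries_sum, symProd]
  refine Finset.prod_congr rfl fun S _ => ?_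
  rw [lamSeries_line_mul L'.posStr hL' (IsLine_prod L'.posStr u hu S)]

/-- The case `i = 1`. -/
theorem map_lamSeries_mul (P : PosStructure K) (hK : HasSplitting K P) {a : K}
    (ha : a ∈ P.pos) (b : K) {n : ℕ} (hn : (P.aug a).toNat = n) {D : Type v} [CommRing D]
    (φ : K →+* D) (w : Fin n → D) (hw : ∀ k : ℕ, φ (LambdaOps.lam k a) = es w k) :
    PowerSeries.map φ (lamSeries (a * b)) =
      ∏ k, PowerSeries.rescale (w k) (PowerSeries.map φ (lamSeries b)) := by
  have h := map_lamSeries_lam_mul P hK ha b 1 hn φ w hw
  rw [LambdaOps.lam_one] at h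
  rw [h, symProd, Finset.powersetCard_one, Finset.prod_map]
  simp

end Groth.Agent.Krr.H477.LamMul
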